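import Cfsg.Agent.H572.RIM.Ek
import Cfsg.Agent.H912.BdOrth2
import Cfsg.Agent.H325.RIM.Surv

/-!
# S4816 (RIM), module side: `PΩ₈⁻(3)`, `p = 13` (helper46)

The Frobenius pair `3³:13` in `Ω₆⁺(3) ≤ Ω₈⁻(3)` (helper912's `slO`, `uO`) and helper572's `ek_frob1`.
-/

set_option autoImplicit false
set_option linter.unusedSectionVars false

namespace Cfsg.Agent.H46.RIM.OmThree

open Cfsg Matrix Cfsg.Agent.OrdDiv Cfsg.Agent.H436 Cfsg.Agent.H665.RIM Cfsg.Agent.H325.RIM
open Cfsg.Agent.H912.Bd Cfsg.Agent.H572.RIM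

universe u v w

/-- the matrix of order 13 -/
def mA : SpecialLinearGroup (Fin 3) (ZMod 3) := ⟨!![-1, 0, 1; 1, 0, 0; 0, 1, 0], by decide⟩

theorem mA_pow : mA ^ 13 = 1 := by decide

section K

variable {K : Type} [Field K] [CharP K 3]

variable (K) in
/-- the matrix of order 13 over `K` -/
def kA : SpecialLinearGroup (Fin 3) K := SpecialLinearGroup.map (ZMod.castHom (dvd_refl 3) K) mA

theorem kA_pow : kA K ^ 13 = 1 := by
  rw [kA, ← map_pow, mA_pow, map_one]

theorem kA_val : (kA K).1 = !![-1, 0, 1; 1, 0, 0; 0, 1, 0] := by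
  ext i j
  change (ZMod.castHom (dvd_refl 3) K) ((!![-1, 0, 1; 1, 0, 0; 0, 1, 0] : Matrix (Fin 3) (Fin 3) (ZMod 3)) i j) = _
  fin_cases i <;> fin_cases j <;> simp

theorem kB_val (v : Fin 3 → K) : (((kA K).1).adjugate)ᵀ *ᵥ v = ![v 2, v 0 + v 2, v 1] := by
  rw [kA_val]
  ext i
  fin_cases i <;>
    simp [Matrix.adjugate_fin_three, mulVec, dotProduct, Fin.sum_univ_three]

variable (K) in
/-- the element of order 13 -/
def xO : Cfsg.Omega K (Cfsg.quadFormPlus 3 K) := slO le_rfl (kA K)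

variable (K) in
/-- the element of order 3 -/
def aO : Cfsg.Omega K (Cfsg.quadFormPlus 3 K) := uO (Multiplicative.ofAdd ![1, 0, 0])

theorem xO_pow : xO K ^ 13 = 1 := by
  rw [xO, ← map_pow, kA_pow, map_one]

theorem conj_x (v : Fin 3 → K) : xO K * uO (Multiplicative.ofAdd v) * (xO K)⁻¹ =
    uO (Multiplicative.ofAdd ![v 2, v 0 + v 2, v 1]) := by
  have h := conj_uO (kA K) (Multiplicative.ofAdd v)
  rw [toAdd_ofAdd, kB_val] at h
  exact h

theorem conj1 : xO K * aO K * (xO K)⁻¹ = uO (Multiplicative.ofAdd ![0, 1, 0]) := by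
  rw [aO, conj_x]
  congr 2
  ext i
  fin_cases i <;> simp

theorem conj2 : xO K ^ 2 * aO K * (xO K ^ 2)⁻¹ = uO (Multiplicative.ofAdd ![0, 0, 1]) := by
  have h : xO K ^ 2 * aO K * (xO K ^ 2)⁻¹ = xO K * (xO K * aO K * (xO K)⁻¹) * (xO K)⁻¹ := by
    rw [pow_two, _root_.mul_inv_rev]
    simp only [mul_assoc]
  rw [h, conj1, conj_x]
  congr 2
  ext i
  fin_cases i <;> simp

theorem conj3 : xO K ^ 3 * aO K * (xO K ^ 3)⁻¹ = uO (Multiplicative.ofAdd ![1, 1, 0]) := by
  have h : xO K ^ 3 * aO K * (xO K ^ 3)⁻¹ = xO K * (xO K ^ 2 * aO K * (xO K ^ 2)⁻¹) * (xO K)⁻¹ := by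
    rw [pow_succ' (xO K) 2, _root_.mul_inv_rev]
    simp only [mul_assoc]
  rw [h, conj2, conj_x]
  congr 2
  ext i
  fin_cases i <;> simp

omit [CharP K 3] in
theorem uO_comm (v w : Multiplicative (Fin 3 → K)) : uO v * uO w = uO w * uO v := by
  rw [← map_mul, mul_comm v w, map_mul]

theorem fp : FP 3 (xO K) (aO K) := by
  refine ⟨?_, ?_, ?_, ?_⟩
  · rw [← mul_inv_eq_iff_eq_mul, conj3, conj1, aO, ← map_mul]
    congr 1
    change Multiplicative.ofAdd _ = Multiplicative.ofAdd (![1, 0, 0] + ![0, 1, 0])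
    congr 1
    ext i
    fin_cases i <;> simp
  · rw [conj1, aO, uO_comm]
  · rw [conj2, aO, uO_comm]
  · rw [aO, ← map_pow]
    have h1 : (Multiplicative.ofAdd (![1, 0, 0] : Fin 3 → K)) ^ 3 = 1 := by
      change Multiplicative.ofAdd (3 • (![1, 0, 0] : Fin 3 → K)) = 1
      have h2 : (3 : ℕ) • (![1, 0, 0] : Fin 3 → K) = 0 := by
        rw [← Nat.cast_smul_eq_nsmul K, CharP.cast_eq_zero, zero_smul]
      rw [h2]
      rfl
    rw [h1, map_one]

theorem aO_not_center : aO K ∉ Subgroup.center (Cfsg.Omega K (Cfsg.quadFormPlus 3 K)) := by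
  intro h
  have h1 := Subgroup.mem_center_iff.1 h (xO K)
  have h2 := conj1 (K := K)
  rw [h1, mul_inv_cancel_right, aO] at h2
  have h3 := congrArg Multiplicative.toAdd (uO_injective h2)
  have h4 := congrFun h3 0
  simp at h4

end K

/-- **`EK` from the homomorphism `Ω₆⁺(3) → S`** -/
theorem ek_of_hom {K : Type} [Field K] [CharP K 3] {S : Type u} [Group S]
    (f : Cfsg.Omega K (Cfsg.quadFormPlus 3 K) →* S) (hf : f.ker ≤ Subgroup.center _)
    (hsq : ¬ 13 ^ 2 ∣ Nat.card S) (hcard : Nat.card S < 13 ^ 13) : EK 13 S := by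
  have hfp := (fp (K := K)).congr f
  have ha : f (aO K) ≠ 1 := fun h => aO_not_center (hf h)
  have hx : f (xO K) ≠ 1 := by
    intro h
    have h1 := hfp.rel
    rw [h] at h1
    simp only [one_pow, one_mul, mul_one, inv_one] at h1
    exact ha (left_eq_mul.1 h1)
  have : Fact (Nat.Prime 13) := ⟨by norm_num⟩
  have hox : orderOf (f (xO K)) = 13 := orderOf_eq_prime (by rw [← map_pow, xO_pow, map_one]) hx
  exact ek_frob1 (by norm_num) (by norm_num) hsq hcard hox hfp ha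

theorem ordN_om43 : ordN (.ominus 4 3) = 10151968619520 := by decide +kernel

/-- **`PΩ₈⁻(3)`, `p = 13`, module side.** -/
theorem ek_om43 {S : Type u} [Group S] (hg : IsNamed (.ominus 4 3) S) : EK.{u} 13 S := by
  have hc := hg.ord
  rw [ordN_om43] at hc
  obtain ⟨F, i1, i2, a, b, hF, hab, ⟨e⟩⟩ := hg.real
  have : Fact (Nat.Prime 3) := ⟨Nat.prime_three⟩
  have hch : CharP F 3 := charP_of_card_eq_prime_pow (f := 1) (by rw [hF]; norm_num)
  obtain ⟨f, hf⟩ := exists_minus (K := F) (le_refl 3) a b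
  refine ek_of_hom (e.symm.toMonoidHom.comp f) ?_ (by rw [hc]; norm_num) (by rw [hc]; norm_num)
  intro x hx
  apply hf
  have h1 : e.symm (f x) = 1 := hx
  exact (map_eq_one_iff _ e.symm.injective).1 h1

/-- **The field `om43` of `RowsKill`.** -/
theorem om43 : KillRow.{u} 13 (.ominus 4 3) := fun _ _ _ hg => Or.inr (ek_om43 hg)

end Cfsg.Agent.H46.RIM.OmThree
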